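import Groth.Agent.Lib.AlgSpRel14.RelDim
import Groth.Agent.Lib.AlgSpDecent.HasAtChart
import Groth.Agent.Lib.EGA43Top.DimLift
import Mathlib.AlgebraicGeometry.Morphisms.UniversallyOpen

/-!
# Dimension of flat and of smooth morphisms
-/

universe u

set_option backward.isDefEq.respectTransparency.types false

open CategoryTheory CategoryTheory.Limits AlgebraicGeometry Topology TopologicalSpace

namespace Groth.Agent.AlgSpRel14

theorem dim_eq_iSup_stalk (A : Scheme.{u}) :
    topologicalKrullDim A = ⨆ a : A, ringKrullDim (A.presheaf.stalk a) := by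
  rw [VarDim.scheme_dim_eq_iSup_height, ← Order.krullDim_eq_iSup_height, Order.krullDim_eq_iSup_coheight]
  exact iSup_congr fun a => (ringKrullDim_stalk_eq_coheight a).symm

theorem stalkDim_le_dim (A : Scheme.{u}) (a : A) : ringKrullDim (A.presheaf.stalk a) ≤ topologicalKrullDim A := by
  rw [dim_eq_iSup_stalk]
  exact le_iSup (fun a => ringKrullDim (A.presheaf.stalk a)) a

theorem iSup_add_le {ι : Sort*} (f : ι → WithBot ℕ∞) (d : ℕ) (M : WithBot ℕ∞) (hf : ∀ i, f i + d ≤ M) :
    (⨆ i, f i) + d ≤ M := by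
  by_cases hb : ∀ i, f i = ⊥
  · rw [show (⨆ i, f i) = ⊥ from iSup_eq_bot.2 hb, WithBot.bot_add]
    exact bot_le
  push Not at hb
  obtain ⟨i, hi⟩ := hb
  obtain ⟨x, hx⟩ := WithBot.ne_bot_iff_exists.1 hi
  induction M with
  | bot =>
    have := le_bot_iff.1 (hf i)
    rw [← hx] at this
    exact absurd this WithBot.coe_ne_bot
  | coe m =>
    have hle : ∀ j (y : ℕ∞), (y : WithBot ℕ∞) = f j → y + (d : ℕ∞) ≤ m := fun j y hy =>
      WithBot.coe_le_coe.1 (by have := hf j; rwa [← hy] at this)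
    obtain ⟨c, rfl⟩ := exists_add_of_le ((le_add_self).trans (hle i x hx))
    have hs : (⨆ j, f j) ≤ (c : WithBot ℕ∞) := iSup_le fun j => by
      rcases hfj : f j with _ | y
      · exact bot_le
      · have h2 := hle j y hfj.symm
        rw [add_comm (d : ℕ∞) c] at h2
        exact WithBot.coe_le_coe.2 ((ENat.add_le_add_iff_right (ENat.coe_ne_top d)).1 h2)
    refine (add_le_add hs le_rfl).trans (le_of_eq ?_)
    rw [add_comm (d : ℕ∞) c, WithBot.coe_add]
    rfl

variable {A B : Scheme.{u}} (h : A ⟶ B)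

/-- the dimension formula for local rings of a flat morphism -/
theorem stalkDim_of_flat [IsLocallyNoetherian A] [IsLocallyNoetherian B] [Flat h] [LocallyOfFiniteType h] (a : A) :
    ∃ b : ℕ, ringKrullDim (A.presheaf.stalk a) = ringKrullDim (B.presheaf.stalk (h a)) + (b : WithBot ℕ∞) ∧
      FlatMor.fibreDimAt h a = ((b + FibDim14.rd h a : ℕ) : WithBot ℕ∞) := by
  obtain ⟨b, hb, hd⟩ := exists_stalkDim h a
  refine ⟨b, ?_, hd⟩
  rw [EGA43Top.ringKrullDim_stalk_eq_of_liftsAt h a (fun z _ _ _ y hy => Flat.generalizingMap h hy), hb]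

/-- every nonempty fibre has a point of residual degree zero -/
theorem exists_rd_eq_zero [LocallyOfFiniteType h] (a : A) : ∃ a', h a' = h a ∧ FibDim14.rd h a' = 0 := by
  haveI : Nonempty (h.fiber (h a)) := ⟨h.asFiber a⟩
  obtain ⟨z, -, hz⟩ := nonempty_inter_closedPoints (X := h.fiber (h a)) Set.univ_nonempty isOpen_univ.isLocallyClosed
  refine ⟨h.fiberι _ z, ?_, ?_⟩
  · exact (Scheme.Hom.range_fiberι h (h a)).le ⟨z, rfl⟩
  · rw [FibDim14.rd_fiberι]
    exact (VarDim.sdim_eq_zero_iff_isClosed _ z).2 hz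

theorem dim_le_of_flat [IsLocallyNoetherian A] [IsLocallyNoetherian B] [Flat h] [LocallyOfFiniteType h] (d : ℕ)
    (hd : ∀ a, FlatMor.fibreDimAt h a = (d : WithBot ℕ∞)) :
    topologicalKrullDim A ≤ topologicalKrullDim B + (d : WithBot ℕ∞) := by
  rw [dim_eq_iSup_stalk A]
  refine iSup_le fun a => ?_
  obtain ⟨b, hb, hb'⟩ := stalkDim_of_flat h a
  rw [hd a] at hb'
  have e : b ≤ d := by
    have : d = b + FibDim14.rd h a := by exact_mod_cast hb'
    omega
  rw [hb]
  exact add_le_add (stalkDim_le_dim B _) (Nat.mono_cast e)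

theorem stalkDim_add_le_of_flat [IsLocallyNoetherian A] [IsLocallyNoetherian B] [Flat h] [LocallyOfFiniteType h] (d : ℕ)
    (hd : ∀ a, FlatMor.fibreDimAt h a = (d : WithBot ℕ∞)) (a : A) :
    ringKrullDim (B.presheaf.stalk (h a)) + (d : WithBot ℕ∞) ≤ topologicalKrullDim A := by
  obtain ⟨a', he, h0⟩ := exists_rd_eq_zero h a
  obtain ⟨b, hb, hb'⟩ := stalkDim_of_flat h a'
  rw [hd a', h0, add_zero] at hb'
  have e : d = b := by exact_mod_cast hb'
  rw [← he, e, ← hb]
  exact stalkDim_le_dim A a'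

theorem exists_localDim_eq {T : Type*} [TopologicalSpace T] (x : T) :
    ∃ U : Opens T, x ∈ U ∧ FlatMor.localDim T x = topologicalKrullDim (U : Set T) := by
  haveI : Nonempty {U : Opens T // x ∈ U} := ⟨⟨⊤, trivial⟩⟩
  obtain ⟨U, hU⟩ := ciInf_mem fun U : {U : Opens T // x ∈ U} => topologicalKrullDim (U.1 : Set T)
  exact ⟨U.1, U.2, hU.symm⟩

theorem localDim_le_opens {T : Type*} [TopologicalSpace T] {x : T} {U : Opens T} (hx : x ∈ U) :
    FlatMor.localDim T x ≤ topologicalKrullDim (U : Set T) := iInf_le_of_le ⟨U, hx⟩ le_rfl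

/-- flat morphisms of relative dimension `d` add `d` to the dimension at points -/
theorem localDim_eq_of_flat [IsLocallyNoetherian A] [IsLocallyNoetherian B] [Flat h] [LocallyOfFiniteType h] (d : ℕ)
    (hd : ∀ a, FlatMor.fibreDimAt h a = (d : WithBot ℕ∞)) (a : A) :
    FlatMor.localDim A a = FlatMor.localDim B (h a) + (d : WithBot ℕ∞) := by
  haveI : LocallyOfFinitePresentation h := VarDim.locallyOfFinitePresentation_of_locallyNoetherian h
  have hres : ∀ U : A.Opens, ∀ u : U, FlatMor.fibreDimAt (U.ι ≫ h) u = (d : WithBot ℕ∞) := fun U u =>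
    (FibDim14.fibreDimAt_etale_comp U.ι h u).trans (hd _)
  refine le_antisymm ?_ ?_
  · obtain ⟨V', hV, e⟩ := exists_localDim_eq (h a)
    let V : B.Opens := V'
    rw [e]
    refine (localDim_le_opens (U := h ⁻¹ᵁ V) hV).trans ?_
    refine dim_le_of_flat (h ∣_ V) d fun u => ?_
    have he := hres (h ⁻¹ᵁ V) u
    rwa [← morphismRestrict_ι, FibDim14.fibreDimAt_comp_lqf (h ∣_ V) V.ι] at he
  · obtain ⟨U', hU, e⟩ := exists_localDim_eq a
    let U : A.Opens := U'
    rw [e]
    let V : B.Opens := ⟨h '' (U : Set A), h.isOpenMap _ U.isOpen⟩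
    have hle : topologicalKrullDim V.toScheme + (d : WithBot ℕ∞) ≤ topologicalKrullDim U.toScheme := by
      rw [dim_eq_iSup_stalk V.toScheme]
      refine iSup_add_le _ d _ fun w => ?_
      obtain ⟨b, hb, hbw⟩ := w.2
      refine le_trans (le_of_eq ?_) (stalkDim_add_le_of_flat (U.ι ≫ h) d (hres U) ⟨b, hb⟩)
      rw [ringKrullDim_eq_of_ringEquiv (V.stalkIso w).commRingCatIsoToRingEquiv]
      exact congrArg (fun y => ringKrullDim (B.presheaf.stalk y) + (d : WithBot ℕ∞)) hbw.symm
    exact (add_le_add (localDim_le_opens (U := V) ⟨a, hU, rfl⟩) le_rfl).trans hle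

end Groth.Agent.AlgSpRel14
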