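import Groth.Agent.Lib.AlgSpRel14.Lqf

/-!
# Locally quasi-finite morphisms and discreteness of fibres
-/

universe u

set_option backward.isDefEq.respectTransparency.types false

open CategoryTheory CategoryTheory.Limits AlgebraicGeometry AlgSp Opposite Topology TopologicalSpace
open Groth.Agent.AlgSpace Groth.Agent.AlgSpDecent

namespace Groth.Agent.AlgSpRel14

variable {S : Scheme.{u}}

attribute [local instance] specializationOrder in
/-- over a locally Noetherian chart, specializations in a fibre of the chart map are trivial -/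
theorem eq_of_specializes_of_ofPt_eq {F : Sp S} {U : Over S} {a : (yon S).obj U ⟶ F} (ha : RepWith @Etale a)
    [IsLocallyNoetherian U.left] {u₁ u₂ : U.left} (hs : u₁ ⤳ u₂) (he : Points.ofPt a u₁ = Points.ofPt a u₂) :
    u₁ = u₂ := by
  by_contra hne
  obtain ⟨Z, p, q, z, hp, hq, hp₁, hq₂⟩ := exists_common_chart ha ha he
  have e : Order.coheight u₁ = Order.coheight u₂ := by
    rw [← hp₁, ← hq₂, ← coheight_eq_of_etale p.left, ← coheight_eq_of_etale q.left]
  have hlt : u₂ < u₁ := lt_of_le_of_ne hs (Ne.symm hne)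
  have htop : Order.coheight u₁ < ⊤ := by
    obtain ⟨n, hn⟩ := ENat.ne_top_iff_exists.1 (DimF18.coheight_ne_top u₁)
    exact hn ▸ ENat.coe_lt_top n
  exact (Order.coheight_strictAnti hlt htop).ne e

theorem exists_fibre_chart {X Y : Space S} (f : X ⟶ Y) (hf : LocP @LocallyOfFiniteType f.hom) {k : Type u} [Field k]
    {str : Spec (CommRingCat.of k) ⟶ S} {y : (yon S).obj (Over.mk str) ⟶ Y.obj} {P : Sp S} {fst : P ⟶ X.obj}
    {snd : P ⟶ (yon S).obj (Over.mk str)} (sq : IsPullback fst snd f.hom y) :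
    ∃ (U V U' : Over S) (a : (yon S).obj U ⟶ X.obj) (b : (yon S).obj V ⟶ Y.obj) (h : U ⟶ V)
      (a' : (yon S).obj U' ⟶ P) (V' : Scheme.{u}) (h' : U'.left ⟶ V') (p : U' ⟶ U) (β : V' ⟶ V.left)
      (j : V' ⟶ Spec (CommRingCat.of k)),
      RepWith @Etale a ∧ RepWith @Etale b ∧ RepWith @Etale a' ∧ RepWith @Surjective a' ∧
        a ≫ f.hom = (yon S).map h ≫ b ∧ a' ≫ fst = (yon S).map p ≫ a ∧ IsPullback p.left h' h.left β ∧
        LocallyOfFiniteType h.left ∧ LocallyOfFiniteType h' ∧ Etale j := by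
  obtain ⟨U, V, U', V', a, b, h, a', b', h', p, β, hae, -, hbe, -, ha'e, ha's, hb'e, -, w, -, wp, -, sqs⟩ :=
    exists_cart_diagram X.property Y.property (IsAlgSpace.yon_obj (Over.mk str)) sq
  have h1 := lft_of_chart hf hae hbe w
  obtain ⟨j, rfl⟩ := (yon S).map_surjective b'
  exact ⟨U, V, U', a, b, h, a', V'.left, h'.left, p, β.left, j.left, hae, hbe, ha'e, ha's, w, wp, sqs, h1,
    MorphismProperty.of_isPullback sqs h1, (repWith_yon_map_iff @Etale j).1 hb'e⟩

theorem discreteTopology_of_lqf {X Y : Space S} (f : X ⟶ Y) (hf : LocP LqfLft f.hom) {k : Type u} [Field k]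
    {str : Spec (CommRingCat.of k) ⟶ S} {y : (yon S).obj (Over.mk str) ⟶ Y.obj} {P : Sp S} {fst : P ⟶ X.obj}
    {snd : P ⟶ (yon S).obj (Over.mk str)} (sq : IsPullback fst snd f.hom y) : DiscreteTopology (Points P) := by
  obtain ⟨U, V, U', a, b, h, a', V', h', p, β, j, hae, hbe, ha'e, ha's, w, -, sqs, -, hh', hj⟩ :=
    exists_fibre_chart f (locP_mono (fun _ _ _ h => h.2) hf) sq
  haveI : LocallyQuasiFinite h' := MorphismProperty.of_isPullback sqs (hf a b h hae hbe w).1
  haveI := locallyQuasiFinite_of_etale j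
  haveI : IsLocallyArtinian U'.left := .of_locallyQuasiFinite (h' ≫ j)
  rw [discreteTopology_iff_isOpen_singleton]
  intro z
  obtain ⟨u', rfl⟩ := surjective_ofPt ha's z
  simpa using isOpenMap_ofPt a' ha'e _ (isOpen_discrete ({u'} : Set U'.left))

theorem hasAtMor_near_of_discrete {X Y : Space S} (f : X ⟶ Y) (hf : LocP @LocallyOfFiniteType f.hom) {k : Type u} [Field k]
    {str : Spec (CommRingCat.of k) ⟶ S} {y : (yon S).obj (Over.mk str) ⟶ Y.obj} {P : Sp S} {fst : P ⟶ X.obj}
    {snd : P ⟶ (yon S).obj (Over.mk str)} (sq : IsPullback fst snd f.hom y) [DiscreteTopology (Points P)] (z : Points P) :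
    HasAtMor (Near LqfLft) f.hom (Points.map fst z) := by
  obtain ⟨U, V, U', a, b, h, a', V', h', p, β, j, hae, hbe, ha'e, ha's, w, wp, sqs, hh, hh', hj⟩ :=
    exists_fibre_chart f hf sq
  obtain ⟨u', rfl⟩ := surjective_ofPt ha's z
  haveI : IsLocallyNoetherian U'.left := LocallyOfFiniteType.isLocallyNoetherian (h' ≫ j)
  have hdim : topologicalKrullDim U'.left ≤ 0 := H12.topologicalKrullDim_nonpos_iff.2 fun u₁ u₂ hs =>
    eq_of_specializes_of_ofPt_eq ha'e hs (hs.map (Points.continuous_ofPt a')).eq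
  rw [Points.map_ofPt, wp, ofPt_map_comp, hasAtMor_near_iff LqfLft hae hbe w, near_lqf_iff,
    ← FibDim14.fibreDimAt_baseChange sqs]
  obtain ⟨q, -, -, hd, -⟩ := FibDim14.exists_fibreDimAt_eq h' u'
  have hle : FlatMor.fibreDimAt h' u' ≤ 0 := by
    rw [FibDim14.fibreDimAt_eq_localDim_preimage]
    exact (FibDim14.localDim_le_of_isEmbedding (e := (Subtype.val : (h' ⁻¹' {h' u'} : Set U'.left) → U'.left)) IsEmbedding.subtypeVal ⟨u', rfl⟩).trans
      (iInf_le_of_le (⟨⊤, trivial⟩ : {U : Opens U'.left // u' ∈ U}) ((IsInducing.subtypeVal.topologicalKrullDim_le).trans hdim))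
  rw [hd] at hle ⊢
  have h0 : FibDim14.rd h' q ≤ 0 := by exact_mod_cast hle
  rw [Nat.le_zero.1 h0]
  rfl

theorem locP_lqf_of_discrete {X Y : Space S} (f : X ⟶ Y) (hf : LocP @LocallyOfFiniteType f.hom)
    (H : ∀ (k : Type u) [Field k] (str : Spec (CommRingCat.of k) ⟶ S) (y : (yon S).obj (Over.mk str) ⟶ Y.obj)
      (P : Sp S) (fst : P ⟶ X.obj) (snd : P ⟶ (yon S).obj (Over.mk str)),
      IsPullback fst snd f.hom y → DiscreteTopology (Points P)) : LocP LqfLft f.hom := by
  rw [locP_iff_forall_hasAtMor_near LqfLft X.property Y.property]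
  intro x
  obtain ⟨U, V, a, b, h, u, hae, hbe, w, rfl⟩ := exists_diagram X.property Y.property f.hom x
  let v := h.left u
  let T : Over S := Over.mk (V.left.fromSpecResidueField v ≫ V.hom)
  let i : T ⟶ V := Over.homMk (V.left.fromSpecResidueField v)
  let y := (yon S).map i ≫ b
  haveI := H (V.left.residueField v) _ y _ _ _ (IsPullback.of_hasPullback f.hom y)
  let t : T.left := IsLocalRing.closedPoint (V.left.residueField v)
  obtain ⟨z, hz, -⟩ := exists_point_lift (IsPullback.of_hasPullback f.hom y) (Points.ofPt a u) (Points.ofScheme T t)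
    (by
      rw [← Points.ofPt_eq_map_ofScheme, ofPt_map_comp i b t, Points.map_ofPt, w, ofPt_map_comp]
      exact congrArg (Points.ofPt b) (Scheme.fromSpecResidueField_apply v t).symm)
  rw [← hz]
  exact hasAtMor_near_of_discrete f hf (IsPullback.of_hasPullback f.hom y) z

end Groth.Agent.AlgSpRel14
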