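import Groth.Agent.Lib.AlgSpDecent.HasAtChart
import Groth.Agent.Lib.FibDim14.BaseChange
import Groth.Prelude.Def_AlgSpDec
import Groth.Prelude.Def_Dual3

/-!
# Properties of morphisms at a point read on one chart diagram
-/

universe u

set_option backward.isDefEq.respectTransparency.types false

open CategoryTheory CategoryTheory.Limits AlgebraicGeometry AlgSp Opposite Topology TopologicalSpace
open Groth.Agent.AlgSpace Groth.Agent.AlgSpDecent

namespace Groth.Agent.AlgSpRel14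

variable {S : Scheme.{u}} {F G : Sp S} {U V : Over S}

/-- invariance of a property of morphisms of pointed schemes in etale squares -/
def EtInv (Q : ∀ A B : Scheme.{u}, (A ⟶ B) → ↥A → Prop) : Prop :=
  ∀ ⦃A B C D : Scheme.{u}⦄ (p : A ⟶ B) (r : C ⟶ D) (h : B ⟶ D) (h' : A ⟶ C), Etale p → Etale r →
    p ≫ h = h' ≫ r → ∀ z, Q A C h' z ↔ Q B D h (p z)

/-- the same under a standing property of the morphisms -/
def EtInvOn (P : MorphismProperty Scheme.{u}) (Q : ∀ A B : Scheme.{u}, (A ⟶ B) → ↥A → Prop) : Prop :=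
  ∀ ⦃A B C D : Scheme.{u}⦄ (p : A ⟶ B) (r : C ⟶ D) (h : B ⟶ D) (h' : A ⟶ C), Etale p → Etale r →
    P h → P h' → p ≫ h = h' ≫ r → ∀ z, Q A C h' z ↔ Q B D h (p z)

theorem EtInv.on {Q : ∀ A B : Scheme.{u}, (A ⟶ B) → ↥A → Prop} (hQ : EtInv Q) (P : MorphismProperty Scheme.{u}) :
    EtInvOn P Q := fun _ _ _ _ p r h h' hp hr _ _ w z => hQ p r h h' hp hr w z

/-- Two chart diagrams through one point are dominated by a third. -/
theorem exists_common_diagram {U' V' : Over S} {f : F ⟶ G} {a : (yon S).obj U ⟶ F} (ha : RepWith @Etale a)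
    {b : (yon S).obj V ⟶ G} (hb : RepWith @Etale b) {h : U ⟶ V} (w : a ≫ f = (yon S).map h ≫ b)
    {a' : (yon S).obj U' ⟶ F} (ha' : RepWith @Etale a') {b' : (yon S).obj V' ⟶ G} (hb' : RepWith @Etale b')
    {h' : U' ⟶ V'} (w' : a' ≫ f = (yon S).map h' ≫ b') {u : U.left} {u' : U'.left}
    (he : Points.ofPt a u = Points.ofPt a' u') :
    ∃ (Z W : Over S) (p : Z ⟶ U) (q : Z ⟶ U') (k : Z ⟶ W) (r : W ⟶ V) (r' : W ⟶ V') (z : Z.left),
      Etale p.left ∧ Etale q.left ∧ Etale r.left ∧ Etale r'.left ∧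
        p.left ≫ h.left = k.left ≫ r.left ∧ q.left ≫ h'.left = k.left ≫ r'.left ∧
        p.left z = u ∧ q.left z = u' := by
  have sqU := ha.1.isPullback' a'
  obtain ⟨z, hz₁, hz₂⟩ := exists_pt_of_isPullback sqU (x := Points.ofScheme U u) (t := u')
    (by rw [← Points.ofPt_eq_map_ofScheme]; exact he)
  rw [ofPt_map_eq] at hz₁
  have sqV := hb.1.isPullback' b'
  have wc : (yon S).map (ha.1.fst' a' ≫ h) ≫ b = (yon S).map (ha.1.snd a' ≫ h') ≫ b' := by
    rw [Functor.map_comp, Functor.map_comp, Category.assoc, Category.assoc, ← w, ← w', ← Category.assoc,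
      ← Category.assoc]
    exact congrArg (· ≫ f) sqU.w
  refine ⟨_, _, ha.1.fst' a', ha.1.snd a', hb.1.lift' _ _ wc, hb.1.fst' b', hb.1.snd b', z,
    ha'.2 a _ _ sqU.flip, ha.2 a' _ _ (ha.1.isPullback a'), hb'.2 b _ _ sqV.flip,
    hb.2 b' _ _ (hb.1.isPullback b'), ?_, ?_, (Points.schemeEquiv U).injective hz₁, hz₂⟩
  · rw [← Over.comp_left, ← Over.comp_left, hb.1.lift'_fst _ _ wc]
  · rw [← Over.comp_left, ← Over.comp_left, hb.1.lift'_snd _ _ wc]

/-- A property of morphisms may be read on any chart diagram. -/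
theorem hasAtMor_iff_of_chart {P : MorphismProperty Scheme.{u}} [EtaleLocal P]
    {Q : ∀ A B : Scheme.{u}, (A ⟶ B) → ↥A → Prop}
    (hQ : EtInvOn P Q) {f : F ⟶ G} (hf : LocP P f) {a : (yon S).obj U ⟶ F} (ha : RepWith @Etale a)
    {b : (yon S).obj V ⟶ G} (hb : RepWith @Etale b) {h : U ⟶ V}
    (w : a ≫ f = (yon S).map h ≫ b) (u : U.left) :
    HasAtMor Q f (Points.ofPt a u) ↔ Q U.left V.left h.left u := by
  refine ⟨fun ⟨U', V', a', b', h', u', ha', hb', w', he, hu'⟩ => ?_,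
    fun hQu => ⟨U, V, a, b, h, u, ha, hb, w, rfl, hQu⟩⟩
  obtain ⟨Z, W, p, q, k, r, r', z, hp, hq, hr, hr', e1, e2, rfl, rfl⟩ :=
    exists_common_diagram ha hb w ha' hb' w' he.symm
  have hPk : P k.left := by
    refine EtaleLocal.of_postcomp_etale P k.left r.left hr ?_
    rw [← e1]
    exact EtaleLocal.etale_comp P hp (hf a b h ha hb w)
  exact (hQ p.left r.left h.left k.left hp hr (hf a b h ha hb w) hPk e1 z).1
    ((hQ q.left r'.left h'.left k.left hq hr' (hf a' b' h' ha' hb' w') hPk e2 z).2 hu')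

/-- The same for properties invariant without standing hypotheses. -/
theorem hasAtMor_iff_of_chart' {Q : ∀ A B : Scheme.{u}, (A ⟶ B) → ↥A → Prop} (hQ : EtInv Q) {f : F ⟶ G}
    {a : (yon S).obj U ⟶ F} (ha : RepWith @Etale a) {b : (yon S).obj V ⟶ G} (hb : RepWith @Etale b) {h : U ⟶ V}
    (w : a ≫ f = (yon S).map h ≫ b) (u : U.left) :
    HasAtMor Q f (Points.ofPt a u) ↔ Q U.left V.left h.left u := by
  refine ⟨fun ⟨U', V', a', b', h', u', ha', hb', w', he, hu'⟩ => ?_,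
    fun hQu => ⟨U, V, a, b, h, u, ha, hb, w, rfl, hQu⟩⟩
  obtain ⟨Z, W, p, q, k, r, r', z, hp, hq, hr, hr', e1, e2, rfl, rfl⟩ :=
    exists_common_diagram ha hb w ha' hb' w' he.symm
  exact (hQ p.left r.left h.left k.left hp hr e1 z).1 ((hQ q.left r'.left h'.left k.left hq hr' e2 z).2 hu')

/-- chart diagrams exist through every point -/
theorem exists_diagram {X Y : Sp S} (hX : IsAlgSpace X) (hY : IsAlgSpace Y) (f : X ⟶ Y) (x : Points X) :
    ∃ (U V : Over S) (a : (yon S).obj U ⟶ X) (b : (yon S).obj V ⟶ Y) (h : U ⟶ V) (u : U.left),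
      RepWith @Etale a ∧ RepWith @Etale b ∧ a ≫ f = (yon S).map h ≫ b ∧ Points.ofPt a u = x := by
  obtain ⟨V, b, hbe, hbs⟩ := hY.atlas
  obtain ⟨U, a, h, hae, has, w⟩ := exists_chart_over hX hY f b hbe hbs
  obtain ⟨u, hu⟩ := surjective_ofPt has x
  exact ⟨U, V, a, b, h, u, hae, hbe, w, hu⟩

/-- fibre dimensions are invariant in etale squares -/
theorem etInvOn_fibreDimAt (R : WithBot ℕ∞ → Prop) :
    EtInvOn @LocallyOfFiniteType (fun _ _ h u => R (FlatMor.fibreDimAt h u)) := by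
  intro A B C D p r h h' hp hr hh hh' w z
  have := locallyQuasiFinite_of_etale r
  have e : FlatMor.fibreDimAt h' z = FlatMor.fibreDimAt h (p z) := by
    rw [← FibDim14.fibreDimAt_comp_lqf h' r, ← FibDim14.fibreDimAt_etale_comp p h, w]
  show R _ ↔ R _
  rw [e]

theorem hasAtMor_fibreDimAt_iff {R : WithBot ℕ∞ → Prop} {f : F ⟶ G} (hf : LocP @LocallyOfFiniteType f)
    {a : (yon S).obj U ⟶ F} (ha : RepWith @Etale a) {b : (yon S).obj V ⟶ G} (hb : RepWith @Etale b) {h : U ⟶ V}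
    (w : a ≫ f = (yon S).map h ≫ b) (u : U.left) :
    HasAtMor (fun _ _ h u => R (FlatMor.fibreDimAt h u)) f (Points.ofPt a u) ↔ R (FlatMor.fibreDimAt h.left u) :=
  hasAtMor_iff_of_chart (etInvOn_fibreDimAt R) hf ha hb w u

end Groth.Agent.AlgSpRel14
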