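import Groth.Agent.Lib.AlgSpRel14.Chart
import Groth.Prelude.Def_AlgSp4

/-!
# Chart diagrams of a cartesian square
-/

universe u

set_option backward.isDefEq.respectTransparency.types false

open CategoryTheory CategoryTheory.Limits AlgebraicGeometry AlgSp Opposite Topology TopologicalSpace
open Groth.Agent.AlgSpace Groth.Agent.AlgSpDecent

namespace Groth.Agent.AlgSpRel14

variable {S : Scheme.{u}}

/-- A cartesian square of algebraic spaces is covered by a cartesian square of schemes. -/
theorem exists_cart_diagram {X Y Y' X' : Sp S} (hX : IsAlgSpace X) (hY : IsAlgSpace Y) (hY' : IsAlgSpace Y')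
    {f : X ⟶ Y} {g : Y' ⟶ Y} {g' : X' ⟶ X} {f' : X' ⟶ Y'} (sq : IsPullback g' f' f g) :
    ∃ (U V U' V' : Over S) (a : (yon S).obj U ⟶ X) (b : (yon S).obj V ⟶ Y) (h : U ⟶ V)
      (a' : (yon S).obj U' ⟶ X') (b' : (yon S).obj V' ⟶ Y') (h' : U' ⟶ V') (p : U' ⟶ U) (β : V' ⟶ V),
      RepWith @Etale a ∧ RepWith @Surjective a ∧ RepWith @Etale b ∧ RepWith @Surjective b ∧
      RepWith @Etale a' ∧ RepWith @Surjective a' ∧ RepWith @Etale b' ∧ RepWith @Surjective b' ∧
      a ≫ f = (yon S).map h ≫ b ∧ a' ≫ f' = (yon S).map h' ≫ b' ∧ a' ≫ g' = (yon S).map p ≫ a ∧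
      b' ≫ g = (yon S).map β ≫ b ∧ IsPullback p.left h'.left h.left β.left := by
  obtain ⟨V, b, hbe, hbs⟩ := hY.atlas
  obtain ⟨V', b', β, hbe', hbs', wβ⟩ := exists_chart_over hY' hY g b hbe hbs
  have sqP := IsPullback.of_hasPullback f b
  obtain ⟨U, r, hre, hrs⟩ := (isAlgSpace_pullback hY hX (IsAlgSpace.yon_obj V) sqP).atlas
  let h : U ⟶ V := (yon S).preimage (r ≫ pullback.snd f b)
  have hh : (yon S).map h = r ≫ pullback.snd f b := (yon S).map_preimage _
  have sqP' := IsPullback.of_hasPullback f' b'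
  let ρ : pullback f' b' ⟶ pullback f b := pullback.lift (pullback.fst f' b' ≫ g')
    (pullback.snd f' b' ≫ (yon S).map β) (by
      rw [Category.assoc, sq.w, ← Category.assoc, pullback.condition, Category.assoc, wβ, Category.assoc])
  have sqρ : IsPullback ρ (pullback.snd f' b') (pullback.snd f b) ((yon S).map β) := by
    have big := sqP'.paste_horiz sq
    have e : pullback.fst f' b' ≫ g' = ρ ≫ pullback.fst f b := (pullback.lift_fst _ _ _).symm
    rw [e, wβ] at big
    exact IsPullback.of_right big (pullback.lift_snd _ _ _) sqP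
  let W := pullback h β
  have sqW : IsPullback ((yon S).map (pullback.fst h β)) ((yon S).map (pullback.snd h β)) ((yon S).map h) ((yon S).map β) :=
    (yon S).map_isPullback (IsPullback.of_hasPullback h β)
  let r' : (yon S).obj W ⟶ pullback f' b' := sqρ.lift ((yon S).map (pullback.fst h β) ≫ r)
    ((yon S).map (pullback.snd h β)) (by rw [Category.assoc, ← hh]; exact sqW.w)
  have hr'1 : r' ≫ ρ = (yon S).map (pullback.fst h β) ≫ r := sqρ.lift_fst _ _ _
  have hr'2 : r' ≫ pullback.snd f' b' = (yon S).map (pullback.snd h β) := sqρ.lift_snd _ _ _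
  have sqr : IsPullback ((yon S).map (pullback.fst h β)) r' r ρ := by
    refine IsPullback.of_bot ?_ hr'1.symm sqρ
    rw [hr'2, ← hh]
    exact sqW
  refine ⟨U, V, W, V', r ≫ pullback.fst f b, b, h, r' ≫ pullback.fst f' b', b', pullback.snd h β, pullback.fst h β, β,
    repWith_comp hre (repWith_of_isPullback sqP.flip hbe), repWith_comp hrs (repWith_of_isPullback sqP.flip hbs),
    hbe, hbs,
    repWith_comp (repWith_of_isPullback sqr hre) (repWith_of_isPullback sqP'.flip hbe'),
    repWith_comp (repWith_of_isPullback sqr hrs) (repWith_of_isPullback sqP'.flip hbs'),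
    hbe', hbs', ?_, ?_, ?_, wβ, ?_⟩
  · rw [hh, Category.assoc, Category.assoc, pullback.condition]
  · rw [← hr'2, Category.assoc, Category.assoc, pullback.condition]
  · rw [← Category.assoc ((yon S).map (pullback.fst h β)), ← hr'1, Category.assoc, Category.assoc, pullback.lift_fst]
  · exact (IsPullback.of_hasPullback h β).map (Over.forget S)

end Groth.Agent.AlgSpRel14
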