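import Groth.Agent.Lib.AlgSpRel14.Nbhd

/-!
# The locally quasi-finite locus of a morphism of algebraic spaces
-/

universe u

set_option backward.isDefEq.respectTransparency.types false

open CategoryTheory CategoryTheory.Limits AlgebraicGeometry AlgSp Opposite Topology TopologicalSpace
open Groth.Agent.AlgSpace Groth.Agent.AlgSpDecent

namespace Groth.Agent.AlgSpRel14

variable {S : Scheme.{u}}

/-- locally quasi-finite and locally of finite type -/
abbrev LqfLft : MorphismProperty Scheme.{u} := @LocallyQuasiFinite ⊓ @LocallyOfFiniteType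

instance : EtaleLocal LqfLft.{u} :=
  etaleLocal_of_cases (Or.inr (Or.inr (Or.inr (Or.inr (Or.inr (Or.inl fun _ _ _ => Iff.rfl))))))

instance : IsZariskiLocalAtSource LqfLft.{u} := inferInstanceAs (IsZariskiLocalAtSource (_ ⊓ _))

theorem near_lqf_iff {A B : Scheme.{u}} (h : A ⟶ B) [LocallyOfFiniteType h] (a : A) :
    Near LqfLft A B h a ↔ FlatMor.fibreDimAt h a = 0 := by
  constructor
  · rintro ⟨W, ha, h1, h2⟩
    have := h1
    have := h2
    have e := FibDim14.fibreDimAt_etale_comp W.ι h (⟨a, ha⟩ : W)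
    rw [FibDim14.fibreDimAt_eq_zero] at e
    exact e.symm
  · intro e
    exact ⟨h.quasiFiniteLocus, (FibDim14.fibreDimAt_eq_zero_iff h a).1 e, inferInstance, inferInstance⟩

theorem one_le_fibreDimAt {A B : Scheme.{u}} (h : A ⟶ B) [LocallyOfFiniteType h] {a : A}
    (ha : ¬ Near LqfLft A B h a) : 1 ≤ FlatMor.fibreDimAt h a := by
  obtain ⟨x', -, -, hd, -⟩ := FibDim14.exists_fibreDimAt_eq h a
  rw [near_lqf_iff, hd] at ha
  rw [hd]
  have : FibDim14.rd h x' ≠ 0 := fun e => ha (by rw [e]; rfl)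
  exact_mod_cast Nat.one_le_iff_ne_zero.2 this

theorem lft_of_chart {X Y : Sp S} {f : X ⟶ Y} (hf : LocP @LocallyOfFiniteType f) {U V : Over S}
    {a : (yon S).obj U ⟶ X} (ha : RepWith @Etale a) {b : (yon S).obj V ⟶ Y} (hb : RepWith @Etale b) {h : U ⟶ V}
    (w : a ≫ f = (yon S).map h ≫ b) : LocallyOfFiniteType h.left := hf a b h ha hb w

theorem hasAtMor_near_lqf_baseChange {X Y Y' X' : Sp S} (hX : IsAlgSpace X) (hY : IsAlgSpace Y) (hY' : IsAlgSpace Y')
    {f : X ⟶ Y} (hf : LocP @LocallyOfFiniteType f) {g : Y' ⟶ Y} {g' : X' ⟶ X} {f' : X' ⟶ Y'}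
    (sq : IsPullback g' f' f g) (x' : Points X') :
    HasAtMor (Near LqfLft) f (Points.map g' x') ↔ HasAtMor (Near LqfLft) f' x' := by
  obtain ⟨U, V, U', V', a, b, h, a', b', h', p, β, hae, -, hbe, -, ha'e, ha's, hb'e, -, w, w', wp, -, sqs⟩ :=
    exists_cart_diagram hX hY hY' sq
  have := lft_of_chart hf hae hbe w
  haveI : LocallyOfFiniteType h'.left := MorphismProperty.of_isPullback sqs inferInstance
  obtain ⟨u', rfl⟩ := surjective_ofPt ha's x'
  rw [Points.map_ofPt, wp, ofPt_map_comp, hasAtMor_near_iff LqfLft hae hbe w, hasAtMor_near_iff LqfLft ha'e hb'e w',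
    near_lqf_iff, near_lqf_iff, FibDim14.fibreDimAt_baseChange sqs]

theorem exists_lqf_open {X Y : Space S} (f : X ⟶ Y) :
    ∃ (X' : Space S) (j : X' ⟶ X), RepWith @IsOpenImmersion j.hom ∧ LocP LqfLft (j ≫ f).hom ∧
      Set.range (Points.map j.hom) = {x | HasAtMor (Near LqfLft) f.hom x} := by
  obtain ⟨X', j, hj, hr⟩ := exists_open_space X
    (isOpen_setOf_hasAtMor_near LqfLft X.property Y.property f.hom)
  refine ⟨X', j, hj, ?_, hr⟩
  rw [locP_iff_forall_hasAtMor_near LqfLft X'.property Y.property]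
  intro y
  rw [show (j ≫ f).hom = j.hom ≫ f.hom from rfl, hasAtMor_near_comp_openImmersion LqfLft X'.property Y.property hj]
  exact hr.subset ⟨y, rfl⟩

end Groth.Agent.AlgSpRel14
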