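import Groth.Agent.Lib.AlgSpRel14.Lqf
import Groth.Agent.Lib.AlgSpace.QC

/-!
# Finiteness of the quasi-finite points over a point
-/

universe u

set_option backward.isDefEq.respectTransparency.types false

open CategoryTheory CategoryTheory.Limits AlgebraicGeometry AlgSp Opposite Topology TopologicalSpace
open Groth.Agent.AlgSpace Groth.Agent.AlgSpDecent

namespace Groth.Agent.AlgSpRel14

/-- a Noetherian space has finitely many isolated points -/
theorem finite_isolated (T : Type*) [TopologicalSpace T] [NoetherianSpace T] :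
    {z : T | IsOpen ({z} : Set T)}.Finite := by
  obtain ⟨t, ht⟩ := (NoetherianSpace.isCompact {z : T | IsOpen ({z} : Set T)}).elim_finite_subcover
    (fun z : {z : T | IsOpen ({z} : Set T)} => ({z.1} : Set T)) (fun z => z.2)
    (fun z hz => Set.mem_iUnion.2 ⟨⟨z, hz⟩, rfl⟩)
  exact (t.finite_toSet.biUnion fun z _ => Set.finite_singleton z.1).subset ht

/-- finitely many quasi-finite points over a point in a quasi-compact piece -/
theorem finite_setOf_fibreDimAt_eq_zero {A B : Scheme.{u}} [IsAffine B] (h : A ⟶ B) [LocallyOfFiniteType h]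
    {K : A.Opens} (hK : IsAffineOpen K) (v : B) :
    ((K : Set A) ∩ {a | h a = v ∧ FlatMor.fibreDimAt h a = 0}).Finite := by
  have : IsAffine K.toScheme := hK
  let g := K.ι ≫ h
  haveI : QuasiCompact g := inferInstance
  haveI : LocallyOfFiniteType g := inferInstance
  haveI : IsLocallyNoetherian (g.fiber v) := LocallyOfFiniteType.isLocallyNoetherian (FibDim14.toPt g v)
  haveI : IsNoetherian (g.fiber v) := {}
  refine (((finite_isolated (g.fiber v)).image (g.fiberι v)).image K.ι).subset ?_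
  rintro a ⟨ha, hv, h0⟩
  have e : FlatMor.fibreDimAt g ⟨a, ha⟩ = 0 := (FibDim14.fibreDimAt_etale_comp K.ι h ⟨a, ha⟩).trans h0
  rw [FibDim14.fibreDimAt_eq_zero_iff, Scheme.Hom.quasiFiniteAt_iff_isOpen_singleton_asFiber] at e
  have hgv : g ⟨a, ha⟩ = v := hv
  subst hgv
  exact ⟨⟨a, ha⟩, ⟨g.asFiber ⟨a, ha⟩, e, g.fiberι_asFiber _⟩, rfl⟩

variable {S : Scheme.{u}}

theorem finite_lqf_over_point {X Y : Sp S} (hX : IsAlgSpace X) (hY : IsAlgSpace Y) {f : X ⟶ Y}
    (hf : IsFiniteTypeMor f) (y : Points Y) :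
    {x : Points X | Points.map f x = y ∧ HasAtMor (Near LqfLft) f x}.Finite := by
  obtain ⟨V, b, hbe, hbs⟩ := hY.atlas
  obtain ⟨v, rfl⟩ := surjective_ofPt hbs y
  obtain ⟨W, hW, hvW, -⟩ := exists_isAffineOpen_mem_and_subset (x := v) (U := (⊤ : V.left.Opens)) trivial
  let V₀ : Over S := Over.mk (W.ι ≫ V.hom)
  haveI : IsAffine V₀.left := hW
  haveI := compactSpace_yon_of_affine V₀
  let i : V₀ ⟶ V := Over.homMk W.ι
  let c := (yon S).map i ≫ b
  have hce : RepWith @Etale c := repWith_comp ((repWith_yon_map_iff @Etale i).2 (inferInstanceAs (Etale W.ι))) hbe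
  let v₀ : V₀.left := ⟨v, hvW⟩
  have hv₀ : Points.ofPt c v₀ = Points.ofPt b v := ofPt_map_comp i b v₀
  have sq := IsPullback.of_hasPullback f c
  have hP := isAlgSpace_pullback hY hX (IsAlgSpace.yon_obj V₀) sq
  haveI := compactSpace_of_isQuasiCompactMor hX hY hf.2 (IsAlgSpace.yon_obj V₀) sq
  obtain ⟨U, r, hre, hrs⟩ := hP.atlas
  obtain ⟨h, hh⟩ : ∃ h : U ⟶ V₀, (yon S).map h = r ≫ pullback.snd f c := ⟨_, (yon S).map_preimage _⟩
  have hae : RepWith @Etale (r ≫ pullback.fst f c) := repWith_comp hre (repWith_of_isPullback sq.flip hce)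
  have w : (r ≫ pullback.fst f c) ≫ f = (yon S).map h ≫ c := by
    rw [hh, Category.assoc, Category.assoc, pullback.condition]
  haveI := lft_of_chart hf.1 hae hce w
  have hloc : ∀ p : Points (pullback f c), ∃ K : U.left.Opens, IsAffineOpen K ∧ p ∈ Points.ofPt r '' (K : Set U.left) := by
    intro p
    obtain ⟨u, rfl⟩ := surjective_ofPt hrs p
    obtain ⟨K, hK, huK, -⟩ := exists_isAffineOpen_mem_and_subset (x := u) (U := (⊤ : U.left.Opens)) trivial
    exact ⟨K, hK, u, huK, rfl⟩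
  choose K hK hpK using hloc
  obtain ⟨t, ht⟩ := isCompact_univ.elim_finite_subcover (fun p => Points.ofPt r '' (K p : Set U.left))
    (fun p => isOpenMap_ofPt r hre _ (K p).2) (fun p _ => Set.mem_iUnion.2 ⟨p, hpK p⟩)
  refine Set.Finite.subset ((t.finite_toSet.biUnion fun p _ =>
    (finite_setOf_fibreDimAt_eq_zero h.left (hK p) v₀).image (Points.ofPt (r ≫ pullback.fst f c)))) ?_
  rintro x ⟨hx, hn⟩
  obtain ⟨w₀, hw₁, hw₂⟩ := exists_point_lift sq x (Points.ofScheme V₀ v₀)
    (by rw [hx, ← hv₀, ← Points.ofPt_eq_map_ofScheme])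
  obtain ⟨p, hp, u, hu, rfl⟩ := Set.mem_iUnion₂.1 (ht (Set.mem_univ w₀))
  have e1 : Points.ofPt (r ≫ pullback.fst f c) u = x := (Points.map_ofPt _ _ _).symm.trans hw₁
  have e2 : h.left u = v₀ := by
    refine (Points.schemeEquiv V₀).injective ?_
    rw [Points.map_ofPt, ← hh, ofPt_map_eq] at hw₂
    exact hw₂
  rw [← e1, hasAtMor_near_iff LqfLft hae hce w, near_lqf_iff] at hn
  exact Set.mem_iUnion₂.2 ⟨p, hp, u, ⟨hu, e2, hn⟩, e1⟩

end Groth.Agent.AlgSpRel14
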