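import Groth.Agent.Lib.AlgSpRel14.RelDim
import Groth.Agent.Lib.AlgSpace.EtaleApps

/-!
# Properties holding near a point; loci of properties
-/

universe u

set_option backward.isDefEq.respectTransparency.types false

open CategoryTheory CategoryTheory.Limits AlgebraicGeometry AlgSp Opposite Topology TopologicalSpace
open Groth.Agent.AlgSpace Groth.Agent.AlgSpDecent

namespace Groth.Agent.AlgSpRel14

variable {S : Scheme.{u}}

/-- holding on a neighbourhood -/
def Near (P : MorphismProperty Scheme.{u}) (A B : Scheme.{u}) (h : A ⟶ B) (a : ↥A) : Prop :=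
  ∃ W : A.Opens, a ∈ W ∧ P (W.ι ≫ h)

theorem near_restrict (P : MorphismProperty Scheme.{u}) [EtaleLocal P] {A B : Scheme.{u}} (h : A ⟶ B) {W W' : A.Opens}
    (e : W' ≤ W) (hW : P (W.ι ≫ h)) : P (W'.ι ≫ h) := by
  rw [← A.homOfLE_ι e, Category.assoc]
  exact EtaleLocal.etale_comp P inferInstance hW

theorem etInv_near (P : MorphismProperty Scheme.{u}) [EtaleLocal P] : EtInv (Near P) := by
  intro A B C D p r h h' hp hr w z
  constructor
  · rintro ⟨W', hz, hW'⟩
    let V : B.Opens := ⟨p '' (W' : Set A), p.isOpenMap _ W'.isOpen⟩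
    have e : W' ≤ p ⁻¹ᵁ V := fun y hy => ⟨y, hy, rfl⟩
    let g := p.resLE V W' e
    have : Etale g := IsZariskiLocalAtSource.resLE (P := @Etale) _ inferInstance
    have : Surjective g := ⟨by
      rintro ⟨y, x, hx, rfl⟩
      exact ⟨⟨x, hx⟩, Subtype.ext (p.coe_resLE_apply e ⟨x, hx⟩)⟩⟩
    refine ⟨V, ⟨z, hz, rfl⟩, EtaleLocal.descends g _ inferInstance inferInstance ?_⟩
    rw [← Category.assoc, Scheme.Hom.resLE_comp_ι, Category.assoc, w, ← Category.assoc]
    exact EtaleLocal.comp_etale P hW' hr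
  · rintro ⟨V, hz, hV⟩
    refine ⟨p ⁻¹ᵁ V, hz, EtaleLocal.of_postcomp_etale P _ r hr ?_⟩
    rw [Category.assoc, ← w, ← Category.assoc, ← morphismRestrict_ι, Category.assoc]
    exact EtaleLocal.etale_comp P (IsZariskiLocalAtTarget.restrict (P := @Etale) hp V) hV

theorem isOpen_setOf_near (P : MorphismProperty Scheme.{u}) {A B : Scheme.{u}} (h : A ⟶ B) :
    IsOpen {a : A | Near P A B h a} := by
  refine isOpen_iff_forall_mem_open.2 fun a ⟨W, ha, hW⟩ => ⟨W, fun b hb => ⟨W, hb, hW⟩, W.isOpen, ha⟩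

theorem near_of_property (P : MorphismProperty Scheme.{u}) [EtaleLocal P] {A B : Scheme.{u}} {h : A ⟶ B} (hh : P h) (a : A) :
    Near P A B h a :=
  ⟨⊤, trivial, EtaleLocal.etale_comp P (inferInstance : Etale (⊤ : A.Opens).ι) hh⟩

theorem property_of_forall_near (P : MorphismProperty Scheme.{u}) [EtaleLocal P] [IsZariskiLocalAtSource P]
    {A B : Scheme.{u}} {h : A ⟶ B} (hh : ∀ a, Near P A B h a) : P h := by
  choose W hW hP using hh
  exact IsZariskiLocalAtSource.of_iSup_eq_top W (top_unique fun a _ => Opens.mem_iSup.2 ⟨a, hW a⟩) hP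

theorem hasAtMor_near_iff (P : MorphismProperty Scheme.{u}) [EtaleLocal P] {F G : Sp S} {f : F ⟶ G} {U V : Over S}
    {a : (yon S).obj U ⟶ F} (ha : RepWith @Etale a) {b : (yon S).obj V ⟶ G} (hb : RepWith @Etale b) {h : U ⟶ V}
    (w : a ≫ f = (yon S).map h ≫ b) (u : U.left) :
    HasAtMor (Near P) f (Points.ofPt a u) ↔ Near P U.left V.left h.left u :=
  hasAtMor_iff_of_chart' (etInv_near P) ha hb w u

theorem isOpen_setOf_hasAtMor_near (P : MorphismProperty Scheme.{u}) [EtaleLocal P] {X Y : Sp S}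
    (hX : IsAlgSpace X) (hY : IsAlgSpace Y) (f : X ⟶ Y) : IsOpen {x : Points X | HasAtMor (Near P) f x} := by
  obtain ⟨U, V, a, b, h, hae, has, hbe, -, w⟩ := exists_chart_square hX hY f
  rw [← (isOpenQuotientMap_ofPt hae has).isQuotientMap.isOpen_preimage]
  exact (congrArg IsOpen (Set.ext fun u => hasAtMor_near_iff P hae hbe w u)).mpr (isOpen_setOf_near P h.left)

/-- the open subspace on an open set of points -/
theorem exists_open_space (X : Space S) {W : Set (Points X.obj)} (hW : IsOpen W) :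
    ∃ (X' : Space S) (j : X' ⟶ X), RepWith @IsOpenImmersion j.hom ∧ Set.range (Points.map j.hom) = W :=
  ⟨⟨openSub W, isAlgSpace_of_representable (repWith_openSubι hW).1 X.property⟩,
    ObjectProperty.homMk (openSubι W), repWith_openSubι hW, range_openSubι W⟩

theorem hasAtMor_near_comp_openImmersion (P : MorphismProperty Scheme.{u}) [EtaleLocal P] {X' X Y : Sp S}
    (hX' : IsAlgSpace X') (hY : IsAlgSpace Y) {j : X' ⟶ X} (hj : RepWith @IsOpenImmersion j) (f : X ⟶ Y)
    (x : Points X') : HasAtMor (Near P) (j ≫ f) x ↔ HasAtMor (Near P) f (Points.map j x) := by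
  obtain ⟨U, V, a, b, h, u, hae, hbe, w, rfl⟩ := exists_diagram hX' hY (j ≫ f) x
  have haj : RepWith @Etale (a ≫ j) :=
    repWith_comp hae (repWith_mono (Q := @Etale) (fun _ _ g (_ : IsOpenImmersion g) => inferInstance) hj)
  rw [Points.map_ofPt, hasAtMor_near_iff P hae hbe w, hasAtMor_near_iff P haj hbe ((Category.assoc _ _ _).trans w)]

theorem locP_iff_forall_hasAtMor_near (P : MorphismProperty Scheme.{u}) [EtaleLocal P] [IsZariskiLocalAtSource P]
    {X Y : Sp S} (hX : IsAlgSpace X) (hY : IsAlgSpace Y) (f : X ⟶ Y) :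
    LocP P f ↔ ∀ x, HasAtMor (Near P) f x := by
  obtain ⟨U, V, a, b, h, hae, has, hbe, hbs, w⟩ := exists_chart_square hX hY f
  refine ⟨fun hf x => ?_, fun hx => locP_of_one_chart a b h hae has hbe w
    (property_of_forall_near P fun u => (hasAtMor_near_iff P hae hbe w u).1 (hx _))⟩
  obtain ⟨u, rfl⟩ := surjective_ofPt has x
  exact (hasAtMor_near_iff P hae hbe w u).2 (near_of_property P (hf a b h hae hbe w) u)

end Groth.Agent.AlgSpRel14
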