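import Groth.Agent.Lib.AlgSpRel14.Cart
import Groth.Agent.Lib.FibDim14.Compact

/-!
# Relative dimension and residual degree of morphisms of algebraic spaces
-/

universe u

set_option backward.isDefEq.respectTransparency.types false

open CategoryTheory CategoryTheory.Limits AlgebraicGeometry AlgSp Opposite Topology TopologicalSpace
open Groth.Agent.AlgSpace Groth.Agent.AlgSpDecent

namespace Groth.Agent.AlgSpRel14

variable {S : Scheme.{u}}

theorem rd_eq_zero_of_lqf {A B : Scheme.{u}} (f : A ⟶ B) [LocallyOfFiniteType f] [LocallyQuasiFinite f] (a : A) :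
    FibDim14.rd f a = 0 := by
  have h := FibDim14.rd_le_fibreDimAt f (x := a) specializes_rfl rfl
  rw [FibDim14.fibreDimAt_eq_zero f] at h
  exact Nat.le_zero.1 (by exact_mod_cast h)

/-- residual degrees are invariant in etale squares -/
theorem etInvOn_rd (R : Cardinal.{u} → Prop) :
    EtInvOn @LocallyOfFiniteType (fun _ _ h u => R (Dual3.resTrdeg h u)) := by
  intro A B C D p r h h' hp hr hh hh' w z
  have := locallyQuasiFinite_of_etale p
  have := locallyQuasiFinite_of_etale r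
  have e1 := FibDim14.rd_comp p h z
  have e2 := FibDim14.rd_comp h' r z
  simp only [w, rd_eq_zero_of_lqf p, rd_eq_zero_of_lqf r, add_zero, zero_add] at e1 e2
  have e : Dual3.resTrdeg h' z = Dual3.resTrdeg h (p z) := by
    rw [show Dual3.resTrdeg h' z = FibDim14.rdeg h' z from rfl, show Dual3.resTrdeg h (p z) = FibDim14.rdeg h (p z) from rfl,
      FibDim14.rdeg_eq_rd, FibDim14.rdeg_eq_rd, ← e2, e1]
  show R _ ↔ R _
  rw [e]

/-- stalks of fibres have finite dimension, complementary to the residual degree -/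
theorem exists_stalkDim {A B : Scheme.{u}} (h : A ⟶ B) [LocallyOfFiniteType h] (a : A) :
    ∃ b : ℕ, ringKrullDim ((h.fiber (h a)).presheaf.stalk (h.asFiber a)) = (b : WithBot ℕ∞) ∧
      FlatMor.fibreDimAt h a = ((b + FibDim14.rd h a : ℕ) : WithBot ℕ∞) := by
  haveI : IsLocallyNoetherian (h.fiber (h a)) :=
    LocallyOfFiniteType.isLocallyNoetherian (FibDim14.toPt h (h a))
  obtain ⟨b, hb⟩ := ENat.ne_top_iff_exists.1 (DimF18.coheight_ne_top (h.asFiber a))
  have hd : ringKrullDim ((h.fiber (h a)).presheaf.stalk (h.asFiber a)) = (b : WithBot ℕ∞) := by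
    rw [ringKrullDim_stalk_eq_coheight, ← hb]; rfl
  refine ⟨b, hd, ?_⟩
  rw [FibDim14.localDim_asFiber_eq, hd, Nat.cast_add]

theorem resTrdeg_eq_rd {A B : Scheme.{u}} (h : A ⟶ B) [LocallyOfFiniteType h] (a : A) :
    Dual3.resTrdeg h a = (FibDim14.rd h a : Cardinal) :=
  FibDim14.rdeg_eq_rd h a

theorem toENat_resTrdeg {A B : Scheme.{u}} (h : A ⟶ B) [LocallyOfFiniteType h] (a : A) :
    ((Cardinal.toENat (Dual3.resTrdeg h a) : ℕ∞) : WithBot ℕ∞) = (FibDim14.rd h a : WithBot ℕ∞) := by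
  rw [resTrdeg_eq_rd, map_natCast]; rfl

/-- chart diagrams of a composite -/
theorem exists_triangle {X Y Z : Sp S} (hX : IsAlgSpace X) (hY : IsAlgSpace Y) (hZ : IsAlgSpace Z)
    (f : X ⟶ Y) (g : Y ⟶ Z) (x : Points X) :
    ∃ (U V W : Over S) (a : (yon S).obj U ⟶ X) (b : (yon S).obj V ⟶ Y) (c : (yon S).obj W ⟶ Z)
      (h : U ⟶ V) (k : V ⟶ W) (u : U.left),
      RepWith @Etale a ∧ RepWith @Etale b ∧ RepWith @Etale c ∧ a ≫ f = (yon S).map h ≫ b ∧
        b ≫ g = (yon S).map k ≫ c ∧ a ≫ f ≫ g = (yon S).map (h ≫ k) ≫ c ∧ Points.ofPt a u = x ∧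
        Points.ofPt b (h.left u) = Points.map f x := by
  obtain ⟨W, c, hce, hcs⟩ := hZ.atlas
  obtain ⟨V, b, k, hbe, hbs, wk⟩ := exists_chart_over hY hZ g c hce hcs
  obtain ⟨U, a, h, hae, has, wh⟩ := exists_chart_over hX hY f b hbe hbs
  obtain ⟨u, hu⟩ := surjective_ofPt has x
  refine ⟨U, V, W, a, b, c, h, k, u, hae, hbe, hce, wh, wk, ?_, hu, ?_⟩
  · rw [← Category.assoc, wh, Category.assoc, wk, ← Category.assoc, ← Functor.map_comp]
  · rw [← hu, Points.map_ofPt, wh, ofPt_map_comp]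

theorem locP_comp_lft {X Y Z : Sp S} (hY : IsAlgSpace Y) (hX : IsAlgSpace X) (hZ : IsAlgSpace Z) {f : X ⟶ Y} {g : Y ⟶ Z}
    (hf : LocP @LocallyOfFiniteType f) (hg : LocP @LocallyOfFiniteType g) : LocP @LocallyOfFiniteType (f ≫ g) := by
  obtain ⟨W, c, hce, hcs⟩ := hZ.atlas
  obtain ⟨V, b, k, hbe, hbs, wk⟩ := exists_chart_over hY hZ g c hce hcs
  obtain ⟨U, a, h, hae, has, wh⟩ := exists_chart_over hX hY f b hbe hbs
  have := hf a b h hae hbe wh
  have := hg b c k hbe hce wk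
  refine locP_of_one_chart a c (h ≫ k) hae has hce ?_ (inferInstanceAs (LocallyOfFiniteType (h.left ≫ k.left)))
  rw [← Category.assoc, wh, Category.assoc, wk, ← Category.assoc, ← Functor.map_comp]

theorem isOpen_relDim_le {X Y : Sp S} (hX : IsAlgSpace X) (hY : IsAlgSpace Y) {f : X ⟶ Y}
    (hf : LocP @LocallyOfFiniteType f) (n : ℕ) :
    IsOpen {x : Points X | HasAtMor (fun _ _ h u => FlatMor.fibreDimAt h u ≤ (n : WithBot ℕ∞)) f x} := by
  obtain ⟨V, b, hbe, hbs⟩ := hY.atlas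
  obtain ⟨U, a, h, hae, has, w⟩ := exists_chart_over hX hY f b hbe hbs
  have := hf a b h hae hbe w
  rw [← (isOpenQuotientMap_ofPt hae has).isQuotientMap.isOpen_preimage]
  refine (congrArg IsOpen (Set.ext fun u => ?_)).mpr (FibDim14.isOpen_fibreDimAt_le h.left n)
  exact hasAtMor_fibreDimAt_iff (R := (· ≤ (n : WithBot ℕ∞))) hf hae hbe w u

theorem isRetrocompact_relDim_le {X Y : Sp S} (hX : IsAlgSpace X) (hY : IsAlgSpace Y) {f : X ⟶ Y}
    (hf : LocP @LocallyOfFinitePresentation f) (n : ℕ) (V : Set (Points X)) (hV : IsOpen V) (hVc : IsCompact V) :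
    IsCompact (V ∩ {x : Points X | HasAtMor (fun _ _ h u => FlatMor.fibreDimAt h u ≤ (n : WithBot ℕ∞)) f x}) := by
  obtain ⟨W, b, hbe, hbs⟩ := hY.atlas
  obtain ⟨U, a, h, hae, has, w⟩ := exists_chart_over hX hY f b hbe hbs
  have := hf a b h hae hbe w
  have hf' : LocP @LocallyOfFiniteType f := locP_mono (fun A B g hg => by
    have : LocallyOfFinitePresentation g := hg
    exact inferInstanceAs (LocallyOfFiniteType g)) hf
  have hVo : IsOpen (Points.ofPt a ⁻¹' V) := hV.preimage (Points.continuous_ofPt a)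
  have hloc : ∀ x ∈ V, ∃ K : U.left.Opens, IsCompact (K : Set U.left) ∧ (K : Set U.left) ⊆ Points.ofPt a ⁻¹' V ∧
      x ∈ Points.ofPt a '' (K : Set U.left) := by
    intro x hx
    obtain ⟨u, rfl⟩ := surjective_ofPt has x
    obtain ⟨K, hK, huK, hKV⟩ := exists_isAffineOpen_mem_and_subset (U := (⟨_, hVo⟩ : U.left.Opens)) (x := u) hx
    exact ⟨K, hK.isCompact, hKV, u, huK, rfl⟩
  choose K hKc hKV hxK using hloc
  obtain ⟨t, ht⟩ := hVc.elim_finite_subcover (fun x : V => Points.ofPt a '' (K x.1 x.2 : Set U.left))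
    (fun x => isOpenMap_ofPt a hae _ (K x.1 x.2).2) (fun x hx => Set.mem_iUnion.2 ⟨⟨x, hx⟩, hxK x hx⟩)
  have hc : IsCompact (⋃ x ∈ t, ((K x.1 x.2 : Set U.left) ∩ {u | FlatMor.fibreDimAt h.left u ≤ (n : WithBot ℕ∞)})) := by
    refine t.isCompact_biUnion fun x _ => ?_
    rw [Set.inter_comm]
    exact FibDim14.isRetrocompact_fibreDimAt_le h.left n (hKc x.1 x.2) (K x.1 x.2).2
  convert hc.image (Points.continuous_ofPt a) using 1
  ext x
  constructor
  · rintro ⟨hx, hP⟩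
    obtain ⟨y, hy, u, hu, rfl⟩ := Set.mem_iUnion₂.1 (ht hx)
    exact ⟨u, Set.mem_iUnion₂.2 ⟨y, hy, hu,
      (hasAtMor_fibreDimAt_iff (R := (· ≤ (n : WithBot ℕ∞))) hf' hae hbe w u).1 hP⟩, rfl⟩
  · rintro ⟨u, hu, rfl⟩
    obtain ⟨y, hy, hu1, hu2⟩ := Set.mem_iUnion₂.1 hu
    exact ⟨hKV y.1 y.2 hu1, (hasAtMor_fibreDimAt_iff (R := (· ≤ (n : WithBot ℕ∞))) hf' hae hbe w u).2 hu2⟩

end Groth.Agent.AlgSpRel14
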