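import Groth.Agent.Lib.AlgSpRel14.FlatDim
import Groth.Agent.Lib.FibDim14.Semicont
import Groth.Agent.Lib.DimF18.Affine
import Mathlib.AlgebraicGeometry.Morphisms.Smooth

/-!
# The relative dimension of a smooth morphism is locally constant
-/

universe u

set_option backward.isDefEq.respectTransparency.types false

open CategoryTheory CategoryTheory.Limits AlgebraicGeometry Topology TopologicalSpace

namespace Groth.Agent.AlgSpRel14

theorem localDim_spec_mvPolynomial (K : Type u) [Field K] (m : ℕ)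
    (z : PrimeSpectrum (MvPolynomial (Fin m) K)) :
    FlatMor.localDim (PrimeSpectrum (MvPolynomial (Fin m) K)) z = (m : WithBot ℕ∞) := by
  let S := MvPolynomial (Fin m) K
  haveI : IrreducibleSpace (Spec (CommRingCat.of S)) := inferInstanceAs (IrreducibleSpace (PrimeSpectrum S))
  obtain ⟨w, -, hw, hd, -⟩ := DimF18.exists_localDim_eq_sdim (DimF18.specTo K S) (z : Spec (CommRingCat.of S))
  have e : w = genericPoint (Spec (CommRingCat.of S)) := (hw _ (genericPoint_specializes w)).symm
  refine hd.trans ?_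
  rw [e, ← VarDim.dim_eq_sdim_genericPoint (DimF18.specTo K S), ← VarDim.ringKrullDim_mvPolynomial K m,
    ← PrimeSpectrum.topologicalKrullDim_eq_ringKrullDim]
  rfl

theorem fibreDimAt_affineSpace {A : Type u} [CommRing A] (m : ℕ) (q : Spec (CommRingCat.of (MvPolynomial (Fin m) A))) :
    FlatMor.fibreDimAt (Spec.map (CommRingCat.ofHom (algebraMap A (MvPolynomial (Fin m) A)))) q =
      (m : WithBot ℕ∞) := by
  rw [FibDim14.fibreDimAt_eq_localDim_preimage]
  let p := PrimeSpectrum.comap (algebraMap A (MvPolynomial (Fin m) A)) q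
  let e := (MvPolynomial.algebraTensorAlgEquiv A p.asIdeal.ResidueField (σ := Fin m)).toRingEquiv
  let H := (PrimeSpectrum.preimageHomeomorphFiber A (MvPolynomial (Fin m) A) p).trans
    (PrimeSpectrum.homeomorphOfRingEquiv e)
  exact (FibDim14.localDim_of_isOpenEmbedding H.isOpenEmbedding _).trans
    (localDim_spec_mvPolynomial p.asIdeal.ResidueField m _)

theorem exists_nhd_fibreDimAt_of_smooth {A B : Scheme.{u}} (h : A ⟶ B) [Smooth h] (a : A) :
    ∃ (m : ℕ) (W : A.Opens), a ∈ W ∧ ∀ w ∈ W, FlatMor.fibreDimAt h w = (m : WithBot ℕ∞) := by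
  obtain ⟨U, hU, V, hV, ha, e, hstd⟩ := Smooth.exists_isStandardSmooth h a
  obtain ⟨m, g, hg, het⟩ := hstd.exists_etale_mvPolynomial
  refine ⟨m, V, ha, fun w hw => ?_⟩
  let γ := Spec.map (CommRingCat.ofHom g)
  let p := Spec.map (CommRingCat.ofHom (algebraMap Γ(B, U) (MvPolynomial (Fin m) Γ(B, U))))
  haveI : Etale γ := (HasRingHomProperty.Spec_iff (P := @Etale)).2 het
  haveI : LocallyOfFiniteType p := (HasRingHomProperty.Spec_iff (P := @LocallyOfFiniteType)).2
    (RingHom.finiteType_algebraMap.2 inferInstance)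
  have hp : γ ≫ p = Spec.map (h.appLE U V e) := by
    rw [← Spec.map_comp]
    exact congrArg Spec.map (CommRingCat.hom_ext hg)
  have hfac : (γ ≫ p) ≫ hU.fromSpec = hV.fromSpec ≫ h := by
    rw [hp, IsAffineOpen.SpecMap_appLE_fromSpec]
  obtain ⟨z, rfl⟩ : w ∈ Set.range hV.fromSpec := by rw [hV.range_fromSpec]; exact hw
  rw [← FibDim14.fibreDimAt_etale_comp hV.fromSpec h]
  simp only [← hfac]
  rw [FibDim14.fibreDimAt_comp_lqf (γ ≫ p) hU.fromSpec, FibDim14.fibreDimAt_etale_comp γ p,
    fibreDimAt_affineSpace]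

end Groth.Agent.AlgSpRel14
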