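import Groth.Agent.Lib.AlgSpRel14.Nbhd
import Groth.Agent.Lib.SmoothPt12.Basic
import Groth.Agent.Lib.FibreLocus.Unr

/-!
# The unramified locus of a morphism of algebraic spaces
-/

universe u

set_option backward.isDefEq.respectTransparency.types false

open CategoryTheory CategoryTheory.Limits AlgebraicGeometry AlgSp Opposite Topology TopologicalSpace
open Groth.Agent.AlgSpace Groth.Agent.AlgSpDecent

namespace Groth.Agent.AlgSpRel14

variable {S : Scheme.{u}}

/-- unramified -/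
abbrev Unr : MorphismProperty Scheme.{u} := @LocallyOfFiniteType ⊓ @FormallyUnramified

instance : EtaleLocal Unr.{u} :=
  etaleLocal_of_cases (Or.inr (Or.inr (Or.inr (Or.inr (Or.inr (Or.inr fun _ _ _ => Iff.rfl))))))

theorem near_unr_iff {A B : Scheme.{u}} (h : A ⟶ B) [LocallyOfFiniteType h] (a : A) :
    Near Unr A B h a ↔ FibreLocus.UnrPt h a :=
  ⟨fun ⟨W, ha, h1⟩ => ⟨W, ha, h1.2⟩, fun ⟨W, ha, h1⟩ => ⟨W, ha, (inferInstance : LocallyOfFiniteType (W.ι ≫ h)), h1⟩⟩

theorem near_unr_baseChange {P X Y Y' : Scheme.{u}} {fst : P ⟶ X} {snd : P ⟶ Y'} {f : X ⟶ Y}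
    {g : Y' ⟶ Y} (hP : IsPullback fst snd f g) [LocallyOfFiniteType f] (x' : P) :
    Near Unr P Y' snd x' ↔ Near Unr X Y f (fst x') := by
  haveI : LocallyOfFiniteType snd := MorphismProperty.of_isPullback hP inferInstance
  rw [near_unr_iff, near_unr_iff]
  exact ⟨SmoothPt12.unrPt_of_baseChange hP x', FibreLocus.isPtLocal_unrPt.bc hP x'⟩

theorem locP_lft_of_comp {X Y Z : Sp S} (hX : IsAlgSpace X) (hY : IsAlgSpace Y) (hZ : IsAlgSpace Z) {f : X ⟶ Y}
    {g : Y ⟶ Z} (hfg : LocP @LocallyOfFiniteType (f ≫ g)) : LocP @LocallyOfFiniteType f := by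
  obtain ⟨W, c, hce, hcs⟩ := hZ.atlas
  obtain ⟨V, b, k, hbe, hbs, wk⟩ := exists_chart_over hY hZ g c hce hcs
  obtain ⟨U, a, h, hae, has, wh⟩ := exists_chart_over hX hY f b hbe hbs
  have h1 : LocallyOfFiniteType (h.left ≫ k.left) := hfg a c (h ≫ k) hae hce (by
    rw [← Category.assoc, wh, Category.assoc, wk, ← Category.assoc, ← Functor.map_comp])
  exact locP_of_one_chart a b h hae has hbe wh (@locallyOfFiniteType_of_comp _ _ _ h.left k.left h1)

theorem hasAtMor_unr_baseChange {X Y Y' X' : Sp S} (hX : IsAlgSpace X) (hY : IsAlgSpace Y) (hY' : IsAlgSpace Y')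
    {f : X ⟶ Y} (hf : LocP @LocallyOfFiniteType f) {g : Y' ⟶ Y} {g' : X' ⟶ X} {f' : X' ⟶ Y'}
    (sq : IsPullback g' f' f g) (x' : Points X') :
    HasAtMor (Near Unr) f' x' ↔ HasAtMor (Near Unr) f (Points.map g' x') := by
  obtain ⟨U, V, U', V', a, b, h, a', b', h', p, β, hae, -, hbe, -, ha'e, ha's, hb'e, -, w, w', wp, -, sqs⟩ :=
    exists_cart_diagram hX hY hY' sq
  haveI : LocallyOfFiniteType h.left := hf a b h hae hbe w
  obtain ⟨u', rfl⟩ := surjective_ofPt ha's x'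
  rw [Points.map_ofPt, wp, ofPt_map_comp, hasAtMor_near_iff Unr hae hbe w, hasAtMor_near_iff Unr ha'e hb'e w',
    near_unr_baseChange sqs]

end Groth.Agent.AlgSpRel14
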